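import Groth.Agent.Lib.Helper5.DF.DF7
import Groth.Agent.S2156

set_option autoImplicit false

universe u

namespace H5.DF

open AlgebraicGeometry CategoryTheory CategoryTheory.Limits

lemma stalkMap_congr_point {X Y : Scheme.{u}} (f : X ⟶ Y) (P : ∀ {R S : Type u} [CommRing R]
    [CommRing S], (R →+* S) → Prop) {x x' : X} (h : x = x') (hx : P (f.stalkMap x).hom) :
    P (f.stalkMap x').hom := by
  subst h; exact hx

/-- general-pullback version of `key` (smooth part), at stalk level. -/
theorem formallySmooth_stalkMap_of_isPullback_flat {P X Y Y' : Scheme.{u}} {fst : P ⟶ X}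
    {snd : P ⟶ Y'} {f : X ⟶ Y} {g : Y' ⟶ Y} (H : IsPullback fst snd f g)
    [LocallyOfFinitePresentation f] (x' : P)
    (hg : (g.stalkMap (snd x')).hom.Flat)
    (hs : (snd.stalkMap x').hom.FormallySmooth) :
    (f.stalkMap (fst x')).hom.FormallySmooth := by
  haveI : LocallyOfFinitePresentation snd := MorphismProperty.of_isPullback H inferInstance
  obtain ⟨U, hxU, hsm⟩ := (H5.DS.exists_smooth_nhd_iff_lfp snd x').2 hs
  let e := H.isoPullback
  have he1 : e.hom ≫ pullback.fst f g = fst := H.isoPullback_hom_fst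
  have he2 : e.hom ≫ pullback.snd f g = snd := H.isoPullback_hom_snd
  have hsq : IsPullback e.inv (pullback.snd f g) snd (𝟙 Y') :=
    IsPullback.of_horiz_isIso ⟨by rw [Category.comp_id, ← he2, Iso.inv_hom_id_assoc]⟩
  have hsm' : Smooth ((e.inv ⁻¹ᵁ U).ι ≫ pullback.snd f g) := nhd_baseChange @Smooth hsq U hsm
  have hp1 : (pullback.fst f g) (e.hom x') = fst x' := by
    rw [← Scheme.Hom.comp_apply, he1]
  have hp2 : (pullback.snd f g) (e.hom x') = snd x' := by
    rw [← Scheme.Hom.comp_apply, he2]
  have hmem : e.hom x' ∈ e.inv ⁻¹ᵁ U := by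
    show e.inv (e.hom x') ∈ U
    rw [← Scheme.Hom.comp_apply, Iso.hom_inv_id]
    exact hxU
  have hg' : (g.stalkMap ((pullback.snd f g) (e.hom x'))).hom.Flat :=
    stalkMap_congr_point g (fun φ => φ.Flat) hp2.symm hg
  have := (key f g (e.hom x') hg').1 ⟨_, hmem, hsm'⟩
  exact stalkMap_congr_point f (fun φ => φ.FormallySmooth) hp1 this

/-- the fibre criterion of smoothness `S2156`, for an arbitrary point of an arbitrary fibre. -/
theorem mem_smoothLocus_iff_fiber {X S : Scheme.{u}} (f : X ⟶ S) [LocallyOfFinitePresentation f]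
    (x : X) (y : S) (hy : f x = y) (z : f.fiber y) (hz : f.fiberι y z = x)
    [LocallyOfFinitePresentation (f.fiberToSpecResidueField y)] :
    x ∈ f.smoothLocus ↔
      (f.stalkMap x).hom.Flat ∧ z ∈ (f.fiberToSpecResidueField y).smoothLocus := by
  subst hy
  have hz' : z = f.asFiber x := by
    apply (f.fiberι (f x)).isEmbedding.injective
    rw [hz, Scheme.Hom.fiberι_asFiber]
  subst hz'
  exact Groth.Agent.S2156.result f x

end H5.DF
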