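import Groth.Agent.Lib.Helper5.DF.DF8
import Groth.Agent.Lib.Helper5.AL.AL9
import Groth.Agent.Lib.Helper5.LL.LL3

set_option autoImplicit false

universe u

namespace H5.DF

open TensorProduct PrimeSpectrum

/-- The unramified locus commutes with arbitrary base change. -/
theorem mem_unramifiedLocus_isPushout_iff (R A T A' : Type u) [CommRing R] [CommRing A]
    [CommRing T] [CommRing A'] [Algebra R A] [Algebra R T] [Algebra A A'] [Algebra T A']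
    [Algebra R A'] [IsScalarTower R A A'] [IsScalarTower R T A'] [Algebra.IsPushout R T A A']
    [Algebra.FiniteType R A] (q' : PrimeSpectrum A') :
    q' ∈ Algebra.unramifiedLocus T A' ↔
      comap (algebraMap A A') q' ∈ Algebra.unramifiedLocus R A := by
  rw [Algebra.unramifiedLocus_eq_compl_support, Algebra.unramifiedLocus_eq_compl_support,
    Set.mem_compl_iff, Set.mem_compl_iff, not_iff_not,
    ← (KaehlerDifferential.tensorKaehlerEquiv R T A A').support_eq]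
  exact mem_support_baseChange_iff q'

end H5.DF

namespace H5.DF

open AlgebraicGeometry CategoryTheory CategoryTheory.Limits

/-- Formal unramifiedness of stalk maps is insensitive to arbitrary base change. -/
theorem formallyUnramified_stalkMap_iff_of_isPullback {P X Y Y' : Scheme.{u}} {fst : P ⟶ X}
    {snd : P ⟶ Y'} {f : X ⟶ Y} {g : Y' ⟶ Y} (H : IsPullback fst snd f g)
    [LocallyOfFiniteType f] (x' : P) :
    (snd.stalkMap x').hom.FormallyUnramified ↔ (f.stalkMap (fst x')).hom.FormallyUnramified := by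
  have hfx : f (fst x') = g (snd x') := by
    rw [← Scheme.Hom.comp_apply, H.w, Scheme.Hom.comp_apply]
  obtain ⟨_, ⟨V, hV, rfl⟩, hxV, -⟩ :=
    Y.isBasis_affineOpens.exists_subset_of_mem_open (Set.mem_univ (f (fst x'))) isOpen_univ
  obtain ⟨_, ⟨U, hU, rfl⟩, hxU, hUV⟩ :=
    X.isBasis_affineOpens.exists_subset_of_mem_open hxV (V.2.preimage f.continuous)
  have hyV : g (snd x') ∈ V := hfx ▸ hxV
  obtain ⟨_, ⟨V', hV', rfl⟩, hyV', hV'V⟩ :=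
    Y'.isBasis_affineOpens.exists_subset_of_mem_open hyV (V.2.preimage g.continuous)
  have hUY' : IsAffineOpen (fst ⁻¹ᵁ U ⊓ snd ⁻¹ᵁ V') := by
    have : IsAffine V := hV
    have : IsAffine U := hU
    have : IsAffine V' := hV'
    exact .of_isIso (Scheme.Hom.isPullback_resLE H hV'V hUV rfl).isoPullback.hom
  have hpush := (isIso_pushoutSection_iff H hV'V hUV rfl).mp
    (isIso_pushoutSection_of_isAffineOpen H hV'V hUV rfl hV hV' hU)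
  have hx'UY : x' ∈ fst ⁻¹ᵁ U ⊓ snd ⁻¹ᵁ V' := ⟨hxU, hyV'⟩
  letI : Algebra Γ(Y, V) Γ(X, U) := (f.appLE V U hUV).hom.toAlgebra
  letI : Algebra Γ(Y, V) Γ(Y', V') := (g.appLE V V' hV'V).hom.toAlgebra
  letI : Algebra Γ(X, U) Γ(P, fst ⁻¹ᵁ U ⊓ snd ⁻¹ᵁ V') :=
    (fst.appLE U (fst ⁻¹ᵁ U ⊓ snd ⁻¹ᵁ V') (by simp)).hom.toAlgebra
  letI : Algebra Γ(Y', V') Γ(P, fst ⁻¹ᵁ U ⊓ snd ⁻¹ᵁ V') :=
    (snd.appLE V' (fst ⁻¹ᵁ U ⊓ snd ⁻¹ᵁ V') (by simp)).hom.toAlgebra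
  letI : Algebra Γ(Y, V) Γ(P, fst ⁻¹ᵁ U ⊓ snd ⁻¹ᵁ V') :=
    ((algebraMap Γ(X, U) _).comp (algebraMap Γ(Y, V) Γ(X, U))).toAlgebra
  haveI : IsScalarTower Γ(Y, V) Γ(X, U) Γ(P, fst ⁻¹ᵁ U ⊓ snd ⁻¹ᵁ V') :=
    .of_algebraMap_eq' rfl
  haveI : IsScalarTower Γ(Y, V) Γ(Y', V') Γ(P, fst ⁻¹ᵁ U ⊓ snd ⁻¹ᵁ V') :=
    .of_algebraMap_eq' (congr($(hpush.w).hom))
  haveI hPO : Algebra.IsPushout Γ(Y, V) Γ(X, U) Γ(Y', V') Γ(P, fst ⁻¹ᵁ U ⊓ snd ⁻¹ᵁ V') :=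
    CommRingCat.isPushout_iff_isPushout.mp hpush
  haveI : Algebra.IsPushout Γ(Y, V) Γ(Y', V') Γ(X, U) Γ(P, fst ⁻¹ᵁ U ⊓ snd ⁻¹ᵁ V') := hPO.symm
  haveI : Algebra.FiniteType Γ(Y, V) Γ(X, U) := f.finiteType_appLE hV hU hUV
  have hcomap := IsAffineOpen.comap_primeIdealOf_appLE (f := fst) U hU
    (fst ⁻¹ᵁ U ⊓ snd ⁻¹ᵁ V') hUY' (by simp) hx'UY
  rw [H5.AL.formallyUnramified_stalkMap_iff (f := snd) V' hV' (fst ⁻¹ᵁ U ⊓ snd ⁻¹ᵁ V') hUY'
    (by simp) hx'UY, H5.AL.formallyUnramified_stalkMap_iff V hV U hU hUV hxU,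
    mem_unramifiedLocus_isPushout_iff Γ(Y, V) Γ(X, U) Γ(Y', V'), ← hcomap]
  rfl

end H5.DF
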