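import Groth.Agent.Lib.Helper5.DF.DF11

set_option autoImplicit false

universe u

namespace H5.DF

open AlgebraicGeometry CategoryTheory CategoryTheory.Limits

instance lfp_fiberToSpecResidueField {X S : Scheme.{u}} (f : X ⟶ S)
    [LocallyOfFinitePresentation f] (y : S) :
    LocallyOfFinitePresentation (f.fiberToSpecResidueField y) :=
  inferInstanceAs (LocallyOfFinitePresentation (pullback.snd f (S.fromSpecResidueField y)))

theorem main2155 {X S X' S' : Scheme.{u}} (f : X ⟶ S) (g : S' ⟶ S) (f' : X' ⟶ S') (g' : X' ⟶ X)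
    (h : IsPullback g' f' f g) [LocallyOfFinitePresentation f] [LocallyOfFinitePresentation f']
    (hflat : Flat f ∨ Flat g) :
    f'.smoothLocus = g' ⁻¹ᵁ f.smoothLocus := by
  ext x'
  show x' ∈ f'.smoothLocus ↔ g' x' ∈ f.smoothLocus
  constructor
  · intro hx'
    rcases hflat with hf | hg
    · have hfib := isPullback_fiberToSpecResidueField_of_isPullback h (f' x')
      have h1 := ((Groth.Agent.S2156.result f' x').1 hx').2
      have hfl : ((Spec.map (g.residueFieldMap (f' x'))).stalkMap
          ((f'.fiberToSpecResidueField (f' x')) (f'.asFiber x'))).hom.Flat :=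
        Flat.stalkMap _ _
      have h2 := @formallySmooth_stalkMap_of_isPullback_flat _ _ _ _ _ _ _ _ hfib
        (lfp_fiberToSpecResidueField f _) (f'.asFiber x') hfl h1
      have hy : f (g' x') = g (f' x') := by
        rw [← Scheme.Hom.comp_apply, h.w, Scheme.Hom.comp_apply]
      have hlfp : LocallyOfFinitePresentation (f.fiberToSpecResidueField (g (f' x'))) :=
        lfp_fiberToSpecResidueField f _
      have hmap : pullback.map _ _ _ _ g' (Spec.map (g.residueFieldMap (f' x'))) g h.w.symm
          (by simp) ≫ f.fiberι (g (f' x')) = f'.fiberι (f' x') ≫ g' := pullback.lift_fst _ _ _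
      have hz : f.fiberι (g (f' x')) ((pullback.map _ _ _ _ g'
          (Spec.map (g.residueFieldMap (f' x'))) g h.w.symm (by simp)) (f'.asFiber x')) = g' x' := by
        have := congrArg (fun φ : f'.fiber (f' x') ⟶ X => φ (f'.asFiber x')) hmap
        simp only [Scheme.Hom.comp_apply] at this
        rw [Scheme.Hom.fiberι_asFiber] at this
        exact this
      exact (mem_smoothLocus_iff_fiber f (g' x') (g (f' x')) hy _ hz).2
        ⟨Flat.stalkMap f _, h2⟩
    · exact formallySmooth_stalkMap_of_isPullback_flat h x' (Flat.stalkMap g _) hx'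
  · intro hx
    obtain ⟨U, hxU, hsm⟩ := (H5.DS.exists_smooth_nhd_iff_lfp f (g' x')).2 hx
    have := nhd_baseChange @Smooth h U hsm
    exact (H5.DS.exists_smooth_nhd_iff_lfp f' x').1 ⟨g' ⁻¹ᵁ U, hxU, this⟩

end H5.DF
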