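import Mathlib

set_option autoImplicit false
open TensorProduct

namespace H5.DF

/-- Pointwise descent of vanishing of localizations along a flat base change: if `M' = T ⊗[R] M`
with `T` flat over `R`, `A' = T ⊗[R] A`, and `s' ∉ q'` kills the image of `x`, then some
`s ∉ q' ∩ A` kills `x`. -/
theorem exists_notMem_smul_eq_zero
    {R A T A' : Type*} [CommRing R] [CommRing A] [CommRing T] [CommRing A']
    [Algebra R A] [Algebra R T] [Algebra A A'] [Algebra T A'] [Algebra R A']
    [IsScalarTower R A A'] [IsScalarTower R T A'] [Algebra.IsPushout R T A A'] [Module.Flat R T]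
    {M M' : Type*} [AddCommGroup M] [AddCommGroup M'] [Module A M] [Module R M]
    [IsScalarTower R A M]
    [Module A' M'] [Module A M'] [IsScalarTower A A' M'] [Module T M'] [IsScalarTower T A' M']
    [Module R M'] [IsScalarTower R T M'] [IsScalarTower R A M']
    (m : M →ₗ[A] M') (hm : IsBaseChange T (m.restrictScalars R))
    (q' : Ideal A') [q'.IsPrime] (x : M) (s' : A') (hs' : s' ∉ q') (h0 : s' • m x = 0) :
    ∃ s : A, s ∉ q'.comap (algebraMap A A') ∧ s • x = 0 := by
  let μ : A →ₗ[A] M := LinearMap.toSpanSingleton A M x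
  let μR : A →ₗ[R] M := μ.restrictScalars R
  let K : Submodule R A := LinearMap.ker μR
  have hex : Function.Exact K.subtype μR := LinearMap.exact_subtype_ker_map μR
  have hexT : Function.Exact (K.subtype.lTensor T) (μR.lTensor T) :=
    Module.Flat.lTensor_exact T hex
  let β : T ⊗[R] A ≃ₐ[T] A' := Algebra.IsPushout.equiv R T A A'
  let ε : T ⊗[R] M ≃ₗ[T] M' := hm.equiv
  have hε : ∀ (t : T) (y : M), ε (t ⊗ₜ y) = t • m y := fun t y => hm.equiv_tmul t y
  have key : ∀ z : T ⊗[R] A, ε (μR.lTensor T z) = β z • m x := by
    intro z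
    induction z using TensorProduct.induction_on with
    | zero => simp
    | tmul t a =>
      rw [LinearMap.lTensor_tmul, hε]
      have h1 : μR a = a • x := rfl
      have h2 : β (t ⊗ₜ a) = algebraMap T A' t * algebraMap A A' a :=
        Algebra.IsPushout.equiv_tmul R T A A' t a
      rw [h1, h2, map_smul, mul_smul, algebraMap_smul, algebraMap_smul]
    | add z w hz hw => rw [map_add, map_add, map_add, add_smul, hz, hw]
  let I : Ideal A := LinearMap.ker μ
  have hmem : ∀ w : T ⊗[R] K, β (K.subtype.lTensor T w) ∈ Ideal.map (algebraMap A A') I := by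
    intro w
    induction w using TensorProduct.induction_on with
    | zero => simp
    | tmul t k =>
      rw [LinearMap.lTensor_tmul]
      have h2 : β (t ⊗ₜ (K.subtype k)) = algebraMap T A' t * algebraMap A A' (K.subtype k) :=
        Algebra.IsPushout.equiv_tmul R T A A' t _
      rw [h2]
      refine Ideal.mul_mem_left _ _ (Ideal.mem_map_of_mem _ ?_)
      exact k.2
    | add z w hz hw => rw [map_add, map_add]; exact Ideal.add_mem _ hz hw
  obtain ⟨z, rfl⟩ : ∃ z, β z = s' := ⟨β.symm s', β.apply_symm_apply s'⟩
  have hz0 : μR.lTensor T z = 0 := by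
    apply ε.injective
    rw [key, h0, map_zero]
  obtain ⟨w, rfl⟩ := (hexT z).mp hz0
  have hs'mem := hmem w
  by_contra hcon
  push_neg at hcon
  have hle : I ≤ q'.comap (algebraMap A A') := by
    intro s hs
    by_contra hsq
    exact hcon s hsq hs
  exact hs' (Ideal.map_le_iff_le_comap.mpr hle hs'mem)

end H5.DF
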