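import Groth.Agent.Lib.Helper5.DF.DF9
import Groth.Prelude.Def_ega3

set_option autoImplicit false

universe u

namespace H5.DF

open AlgebraicGeometry CategoryTheory CategoryTheory.Limits

theorem isPullback_fiberMapOver {X Y S : Scheme.{u}} (g : Y ⟶ S) (h : X ⟶ S) (f : X ⟶ Y)
    (w : f ≫ g = h) (s : S) :
    IsPullback (h.fiberι s) (CohIII.fiberMapOver f h g w s) f (g.fiberι s) := by
  have h1 : CohIII.fiberMapOver f h g w s ≫ g.fiberι s = h.fiberι s ≫ f := by
    unfold CohIII.fiberMapOver Scheme.Hom.fiberι
    exact pullback.lift_fst _ _ _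
  have h2 : CohIII.fiberMapOver f h g w s ≫ g.fiberToSpecResidueField s =
      h.fiberToSpecResidueField s := by
    unfold CohIII.fiberMapOver Scheme.Hom.fiberToSpecResidueField
    exact (pullback.lift_snd _ _ _).trans (Category.comp_id _)
  have big : IsPullback (CohIII.fiberMapOver f h g w s ≫ g.fiberToSpecResidueField s)
      (h.fiberι s) (S.fromSpecResidueField s) (f ≫ g) := by
    rw [h2, w]
    exact (IsPullback.of_hasPullback h (S.fromSpecResidueField s)).flip
  have right : IsPullback (g.fiberToSpecResidueField s) (g.fiberι s)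
      (S.fromSpecResidueField s) g :=
    (IsPullback.of_hasPullback g (S.fromSpecResidueField s)).flip
  exact (IsPullback.of_right big h1 right).flip

theorem main16765 {X Y S : Scheme.{u}} (g : Y ⟶ S) (h : X ⟶ S)
    [LocallyOfFinitePresentation g] [LocallyOfFinitePresentation h] (f : X ⟶ Y) (w : f ≫ g = h)
    (x : ↥X)
    (x' : ↥(h.fiber (h x))) (hx' : (h.fiberι (h x)) x' = x) :
    (∃ U : X.Opens, x ∈ U ∧ FormallyUnramified (U.ι ≫ f)) ↔
      ∃ V : (h.fiber (h x)).Opens, x' ∈ V ∧
        FormallyUnramified (V.ι ≫ CohIII.fiberMapOver f h g w (h x)) := by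
  haveI : LocallyOfFiniteType (f ≫ g) := by rw [w]; infer_instance
  haveI : LocallyOfFiniteType f := locallyOfFiniteType_of_comp f g
  have H := isPullback_fiberMapOver g h f w (h x)
  haveI : LocallyOfFiniteType (CohIII.fiberMapOver f h g w (h x)) :=
    MorphismProperty.of_isPullback (P := @LocallyOfFiniteType) H ‹_›
  rw [H5.LL.exists_unramified_nhd_iff, H5.LL.exists_unramified_nhd_iff,
    formallyUnramified_stalkMap_iff_of_isPullback H x', hx']

end H5.DF

namespace H5.DF

open AlgebraicGeometry CategoryTheory CategoryTheory.Limits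

theorem main5007 {X Y S : Scheme.{u}} (g : Y ⟶ S) (h : X ⟶ S)
    [LocallyOfFinitePresentation g] [LocallyOfFinitePresentation h] (f : X ⟶ Y) (w : f ≫ g = h) :
    FormallyUnramified f ↔ ∀ s : ↥S, FormallyUnramified (pullback.snd f (g.fiberι s)) := by
  haveI : LocallyOfFiniteType (f ≫ g) := by rw [w]; infer_instance
  haveI : LocallyOfFiniteType f := locallyOfFiniteType_of_comp f g
  constructor
  · intro hf s
    exact MorphismProperty.pullback_snd _ _ hf
  · intro H
    have key : ∀ x : X, (f.stalkMap x).hom.FormallyUnramified := by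
      intro x
      obtain ⟨x', hx'₁, hx'₂⟩ := Scheme.Pullback.exists_preimage_pullback
        (f := f) (g := g.fiberι (g (f x))) x (g.asFiber (f x)) (by rw [Scheme.Hom.fiberι_asFiber])
      have h1 := (formallyUnramified_stalkMap_iff_of_isPullback
        (IsPullback.of_hasPullback f (g.fiberι (g (f x)))) x').1
        (@FormallyUnramified.stalkMap _ _ _ (H (g (f x))) x')
      rwa [hx'₁] at h1
    choose U hxU hU using fun x => H5.LL.exists_unramified_nhd f x (key x)
    refine IsZariskiLocalAtSource.of_iSup_eq_top (P := @FormallyUnramified) U ?_ hU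
    rw [eq_top_iff]
    intro x _
    exact TopologicalSpace.Opens.mem_iSup.mpr ⟨x, hxU x⟩

end H5.DF
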