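import Mathlib

set_option autoImplicit false
open TensorProduct PrimeSpectrum

namespace H5.DF

/-- Freeness at a prime descends along flat ring maps, for finitely presented modules. -/
theorem mem_freeLocus_of_flat {A A' : Type*} [CommRing A] [CommRing A'] [Algebra A A']
    [Module.Flat A A']
    {M : Type*} [AddCommGroup M] [Module A M] [Module.FinitePresentation A M]
    (p' : PrimeSpectrum A') (h : p' ∈ Module.freeLocus A' (A' ⊗[A] M)) :
    comap (algebraMap A A') p' ∈ Module.freeLocus A M := by
  haveI : p'.asIdeal.LiesOver (comap (algebraMap A A') p').asIdeal := ⟨rfl⟩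
  letI := Localization.AtPrime.algebraOfLiesOver (comap (algebraMap A A') p').asIdeal p'.asIdeal
  rw [Module.mem_freeLocus_iff_tensor _ (Localization.AtPrime p'.asIdeal)] at h
  rw [Module.mem_freeLocus_iff_tensor _
    (Localization.AtPrime (comap (algebraMap A A') p').asIdeal)]
  let e := AlgebraTensorModule.cancelBaseChange A
      (Localization.AtPrime (comap (algebraMap A A') p').asIdeal)
      (Localization.AtPrime p'.asIdeal) (Localization.AtPrime p'.asIdeal) M ≪≫ₗ
    (AlgebraTensorModule.cancelBaseChange A A' (Localization.AtPrime p'.asIdeal)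
      (Localization.AtPrime p'.asIdeal) M).symm
  haveI : Module.Free (Localization.AtPrime p'.asIdeal)
      (Localization.AtPrime p'.asIdeal ⊗[Localization.AtPrime (comap (algebraMap A A') p').asIdeal]
        (Localization.AtPrime (comap (algebraMap A A') p').asIdeal ⊗[A] M)) :=
    .of_equiv e.symm
  haveI : IsLocalHom (algebraMap (Localization.AtPrime (comap (algebraMap A A') p').asIdeal)
      (Localization.AtPrime p'.asIdeal)) := by
    rw [RingHom.algebraMap_toAlgebra]
    exact Localization.isLocalHom_localRingHom _ _ (algebraMap A A') Ideal.LiesOver.over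
  haveI : Module.FaithfullyFlat (Localization.AtPrime (comap (algebraMap A A') p').asIdeal)
      (Localization.AtPrime p'.asIdeal) := Module.FaithfullyFlat.of_flat_of_isLocalHom
  haveI : Module.Flat (Localization.AtPrime (comap (algebraMap A A') p').asIdeal)
      (Localization.AtPrime (comap (algebraMap A A') p').asIdeal ⊗[A] M) :=
    Module.Flat.of_flat_tensorProduct _ _ (Localization.AtPrime p'.asIdeal)
  exact Module.free_of_flat_of_isLocalRing

end H5.DF
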