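import Mathlib

set_option autoImplicit false
open TensorProduct

namespace H5.DF

universe u

open Algebra in
/-- functoriality of `H1Cotangent.map`. -/
theorem h1Cotangent_map_comp (R S A B S' B' : Type u) [CommRing R] [CommRing S] [CommRing A]
    [CommRing B] [CommRing S'] [CommRing B']
    [Algebra R A] [Algebra R S] [Algebra S B] [Algebra A B] [Algebra R B]
    [IsScalarTower R A B] [IsScalarTower R S B]
    [Algebra S S'] [Algebra S' B'] [Algebra B B'] [Algebra S B']
    [IsScalarTower S B B'] [IsScalarTower S S' B']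
    [Algebra R S'] [IsScalarTower R S S'] [Algebra A B'] [IsScalarTower A B B']
    [Algebra R B'] [IsScalarTower R A B'] [IsScalarTower R S' B']
    (x : H1Cotangent R A) :
    H1Cotangent.map S S' B B' (H1Cotangent.map R S A B x) = H1Cotangent.map R S' A B' x := by
  rw [H1Cotangent.map, H1Cotangent.map, H1Cotangent.map,
    ← Extension.H1Cotangent.map_comp_apply]
  exact congr($(Extension.H1Cotangent.map_eq _ _) x)

end H5.DF

namespace H5.DF

universe u

open Algebra

attribute [local instance] Algebra.TensorProduct.rightAlgebra in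
theorem h1Cotangent_isBaseChange (R A T A' : Type u) [CommRing R] [CommRing A] [CommRing T]
    [CommRing A'] [Algebra R A] [Algebra R T] [Algebra A A'] [Algebra T A'] [Algebra R A']
    [IsScalarTower R A A'] [IsScalarTower R T A'] [Algebra.IsPushout R T A A'] [Module.Flat R T] :
    IsBaseChange T ((H1Cotangent.map R T A A').restrictScalars R) := by
  let β : T ⊗[R] A ≃ₐ[T] A' := Algebra.IsPushout.equiv R T A A'
  letI := β.toRingHom.toAlgebra
  letI := β.symm.toRingHom.toAlgebra
  haveI : IsScalarTower T (T ⊗[R] A) A' := .of_algebraMap_eq' β.toAlgHom.comp_algebraMap.symm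
  haveI : IsScalarTower A (T ⊗[R] A) A' := .of_algebraMap_eq fun a => by
    show algebraMap A A' a = β ((1 : T) ⊗ₜ a)
    rw [Algebra.IsPushout.equiv_tmul, map_one, one_mul]
  let ε₁ : T ⊗[R] H1Cotangent R A ≃ₗ[T] H1Cotangent T (T ⊗[R] A) := tensorH1CotangentOfFlat R A T
  let ε₂ : H1Cotangent T (T ⊗[R] A) ≃ₗ[T] H1Cotangent T A' := H1Cotangent.mapEquiv T (T ⊗[R] A) A' β
  refine IsBaseChange.of_equiv (ε₁ ≪≫ₗ ε₂) fun x => ?_
  rw [LinearEquiv.trans_apply]
  have h1 : ε₁ ((1 : T) ⊗ₜ x) = (1 : T) • H1Cotangent.map R T A (T ⊗[R] A) x :=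
    tensorH1CotangentOfFlat_tmul R A T 1 x
  rw [h1, one_smul]
  have h2 : ε₂ (H1Cotangent.map R T A (T ⊗[R] A) x) =
      H1Cotangent.map T T (T ⊗[R] A) A' (H1Cotangent.map R T A (T ⊗[R] A) x) := rfl
  rw [h2, h1Cotangent_map_comp]
  rfl

end H5.DF
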