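import Groth.Agent.Lib.Helper5.DF.DF1
import Groth.Agent.Lib.Helper5.DF.DF2
import Groth.Agent.Lib.Helper5.DF.DF3

set_option autoImplicit false
open TensorProduct PrimeSpectrum

namespace H5.DF

universe u

open Algebra

/-- The smooth locus descends along flat base change (pointwise). -/
theorem mem_smoothLocus_of_isPushout_flat (R A T A' : Type u) [CommRing R] [CommRing A]
    [CommRing T] [CommRing A'] [Algebra R A] [Algebra R T] [Algebra A A'] [Algebra T A']
    [Algebra R A'] [IsScalarTower R A A'] [IsScalarTower R T A'] [Algebra.IsPushout R T A A']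
    [Algebra.FinitePresentation R A] [Module.Flat R T]
    (q' : PrimeSpectrum A') (h : q' ∈ Algebra.smoothLocus T A') :
    comap (algebraMap A A') q' ∈ Algebra.smoothLocus R A := by
  haveI : Algebra.FinitePresentation T A' := .equiv (Algebra.IsPushout.equiv R T A A')
  rw [Algebra.smoothLocus_eq_compl_support_inter] at h ⊢
  obtain ⟨h1, h2⟩ := h
  refine ⟨?_, ?_⟩
  · rw [Set.mem_compl_iff, Module.notMem_support_iff'] at h1 ⊢
    intro x
    obtain ⟨s', hs', h0⟩ := h1 (H1Cotangent.map R T A A' x)
    exact exists_notMem_smul_eq_zero (H1Cotangent.map R T A A')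
      (h1Cotangent_isBaseChange R A T A') q'.asIdeal x s' hs' h0
  · haveI : Algebra.IsPushout R A T A' := Algebra.IsPushout.symm inferInstance
    haveI : Module.Flat A A' :=
      Module.Flat.isBaseChange R A T A' (Algebra.IsPushout.out (R := R) (S := A) (R' := T) (S' := A'))
    have e := KaehlerDifferential.tensorKaehlerEquiv R T A A'
    rw [Module.freeLocus_congr e.symm] at h2
    exact mem_freeLocus_of_flat q' h2

/-- The unramified locus descends along flat base change (pointwise). -/
theorem mem_unramifiedLocus_of_isPushout_flat (R A T A' : Type u) [CommRing R] [CommRing A]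
    [CommRing T] [CommRing A'] [Algebra R A] [Algebra R T] [Algebra A A'] [Algebra T A']
    [Algebra R A'] [IsScalarTower R A A'] [IsScalarTower R T A'] [Algebra.IsPushout R T A A']
    [Module.Flat R T]
    (q' : PrimeSpectrum A') (h : q' ∈ Algebra.unramifiedLocus T A') :
    comap (algebraMap A A') q' ∈ Algebra.unramifiedLocus R A := by
  rw [Algebra.unramifiedLocus_eq_compl_support] at h ⊢
  rw [Set.mem_compl_iff, Module.notMem_support_iff'] at h ⊢
  intro x
  obtain ⟨s', hs', h0⟩ := h (KaehlerDifferential.map R T A A' x)
  exact exists_notMem_smul_eq_zero (KaehlerDifferential.map R T A A')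
    (KaehlerDifferential.isBaseChange R T A A') q'.asIdeal x s' hs' h0

end H5.DF
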