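import Groth.Agent.Lib.Helper5.DF.DF4
import Groth.Agent.Lib.Helper5.DS.DS5
import Groth.Agent.Lib.Helper5.AL.AL9

set_option autoImplicit false

universe u

namespace H5.DF

open AlgebraicGeometry CategoryTheory CategoryTheory.Limits IsLocalRing

/-- flatness of `Γ(Y, V) → Γ(Spec O_{Y',y'}, ⊤)` from flatness of `g` at `y'`. -/
theorem flat_appLE_fromSpecStalk {Y Y' : Scheme.{u}} (g : Y' ⟶ Y) (y' : Y')
    (hg : (g.stalkMap y').hom.Flat) {V : Y.Opens} (hV : IsAffineOpen V) (hyV : g y' ∈ V)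
    (e : ⊤ ≤ (Y'.fromSpecStalk y' ≫ g) ⁻¹ᵁ V) :
    ((Y'.fromSpecStalk y' ≫ g).appLE V ⊤ e).hom.Flat := by
  have hk : Y'.fromSpecStalk y' ≫ g =
      Spec.map (Y.presheaf.germ V (g y') hyV ≫ g.stalkMap y') ≫ hV.fromSpec := by
    rw [← Scheme.SpecMap_stalkMap_fromSpecStalk, ← hV.fromSpecStalk_eq_fromSpecStalk hyV,
      IsAffineOpen.fromSpecStalk, Spec.map_comp, Category.assoc]
  have h1 := IsAffineOpen.SpecMap_appLE_fromSpec (Y'.fromSpecStalk y' ≫ g) hV
    (isAffineOpen_top (Spec (Y'.presheaf.stalk y'))) e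
  rw [IsAffineOpen.fromSpec_top, Scheme.isoSpec_Spec_inv] at h1
  conv_rhs at h1 => rw [hk]
  rw [← Category.assoc, ← Spec.map_comp, cancel_mono] at h1
  have h2 := Spec.map_injective h1
  rw [h2]
  rw [CommRingCat.hom_comp, CommRingCat.hom_comp]
  refine RingHom.Flat.comp (RingHom.Flat.comp ?_ hg) ?_
  · letI := (Y.presheaf.germ V (g y') hyV).hom.toAlgebra
    haveI := hV.isLocalization_stalk ⟨g y', hyV⟩
    rw [← RingHom.algebraMap_toAlgebra (Y.presheaf.germ V (g y') hyV).hom,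
      RingHom.flat_algebraMap_iff]
    exact IsLocalization.flat _ (hV.primeIdealOf ⟨g y', hyV⟩).asIdeal.primeCompl
  · exact RingHom.Flat.of_bijective
      (ConcreteCategory.bijective_of_isIso (Scheme.ΓSpecIso (Y'.presheaf.stalk y')).inv)

end H5.DF
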