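import Groth.Agent.Lib.Helper5.DF.DF5

set_option autoImplicit false

universe u

namespace H5.DF

open AlgebraicGeometry CategoryTheory CategoryTheory.Limits IsLocalRing

/-- base change of a neighbourhood with property `Q`. -/
theorem nhd_baseChange (Q : MorphismProperty Scheme.{u}) [Q.IsStableUnderBaseChange]
    {P X' Z Y' : Scheme.{u}} {pf : P ⟶ X'} {ps : P ⟶ Z} {f' : X' ⟶ Y'} {j : Z ⟶ Y'}
    (H : IsPullback pf ps f' j) (U' : X'.Opens) (hQ : Q (U'.ι ≫ f')) :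
    Q ((pf ⁻¹ᵁ U').ι ≫ ps) :=
  Q.of_isPullback ((isPullback_morphismRestrict pf U').paste_vert H) hQ

theorem key {X Y Y' : Scheme.{u}} (f : X ⟶ Y) [LocallyOfFinitePresentation f]
    (g : Y' ⟶ Y) (x' : ↑(pullback f g))
    (hg : (g.stalkMap ((pullback.snd f g) x')).hom.Flat) :
    ((∃ U' : (pullback f g).Opens, x' ∈ U' ∧ Smooth (U'.ι ≫ pullback.snd f g)) →
      (f.stalkMap ((pullback.fst f g) x')).hom.FormallySmooth) ∧
    ((∃ U' : (pullback f g).Opens, x' ∈ U' ∧ FormallyUnramified (U'.ι ≫ pullback.snd f g)) →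
      (f.stalkMap ((pullback.fst f g) x')).hom.FormallyUnramified) := by
  -- the local scheme `Z` at `y'`
  set y' := (pullback.snd f g) x' with hy'
  let j := Y'.fromSpecStalk y'
  let pf := pullback.fst (pullback.snd f g) j
  let ps := pullback.snd (pullback.snd f g) j
  have H₁ : IsPullback pf ps (pullback.snd f g) j := IsPullback.of_hasPullback _ _
  have H : IsPullback (pf ≫ pullback.fst f g) ps f (j ≫ g) :=
    H₁.paste_horiz (IsPullback.of_hasPullback f g)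
  -- the point `x''`
  obtain ⟨x'', hx''₁, hx''₂⟩ := Scheme.Pullback.exists_preimage_pullback
    (f := pullback.snd f g) (g := j) x' (closedPoint (Y'.presheaf.stalk y'))
    (by rw [Scheme.fromSpecStalk_closedPoint])
  have hxx : (pf ≫ pullback.fst f g) x'' = (pullback.fst f g) x' := by
    rw [Scheme.Hom.comp_apply, hx''₁]
  -- affine opens
  have hfx : f ((pullback.fst f g) x') = g y' := by
    rw [← Scheme.Hom.comp_apply, pullback.condition, Scheme.Hom.comp_apply]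
  obtain ⟨_, ⟨V, hV, rfl⟩, hxV, -⟩ :=
    Y.isBasis_affineOpens.exists_subset_of_mem_open (Set.mem_univ (f ((pullback.fst f g) x')))
      isOpen_univ
  obtain ⟨_, ⟨U, hU, rfl⟩, hxU, hUV⟩ :=
    X.isBasis_affineOpens.exists_subset_of_mem_open hxV (V.2.preimage f.continuous)
  have hyV : g y' ∈ V := hfx ▸ hxV
  have hTV : (⊤ : (Spec (Y'.presheaf.stalk y')).Opens) ≤ (j ≫ g) ⁻¹ᵁ V := by
    intro z _
    have h1 : z ⤳ closedPoint (Y'.presheaf.stalk y') := IsLocalRing.specializes_closedPoint z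
    have h2 := h1.map (j ≫ g).continuous
    refine h2.mem_open V.2 ?_
    show (j ≫ g) (closedPoint (Y'.presheaf.stalk y')) ∈ V
    rw [Scheme.Hom.comp_apply, Scheme.fromSpecStalk_closedPoint]
    exact hyV
  have hflat := flat_appLE_fromSpecStalk g y' hg hV hyV hTV
  have htop := isAffineOpen_top (Spec (Y'.presheaf.stalk y'))
  -- the affine open of `P`
  have hUY' : IsAffineOpen ((pf ≫ pullback.fst f g) ⁻¹ᵁ U ⊓ ps ⁻¹ᵁ ⊤) := by
    have : IsAffine V := hV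
    have : IsAffine U := hU
    have : IsAffine (⊤ : (Spec (Y'.presheaf.stalk y')).Opens) := htop
    exact .of_isIso (Scheme.Hom.isPullback_resLE H hTV hUV rfl).isoPullback.hom
  have hpush := (isIso_pushoutSection_iff H hTV hUV rfl).mp
    (isIso_pushoutSection_of_isAffineOpen H hTV hUV rfl hV htop hU)
  have hx''UY : x'' ∈ (pf ≫ pullback.fst f g) ⁻¹ᵁ U ⊓ ps ⁻¹ᵁ ⊤ := ⟨by
    show (pf ≫ pullback.fst f g) x'' ∈ U
    rw [hxx]; exact hxU, trivial⟩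
  -- ring structures
  letI : Algebra Γ(Y, V) Γ(X, U) := (f.appLE V U hUV).hom.toAlgebra
  letI : Algebra Γ(Y, V) Γ(Spec (Y'.presheaf.stalk y'), ⊤) := ((j ≫ g).appLE V ⊤ hTV).hom.toAlgebra
  letI : Algebra Γ(X, U) Γ(pullback (pullback.snd f g) j, (pf ≫ pullback.fst f g) ⁻¹ᵁ U ⊓ ps ⁻¹ᵁ ⊤) :=
    ((pf ≫ pullback.fst f g).appLE U ((pf ≫ pullback.fst f g) ⁻¹ᵁ U ⊓ ps ⁻¹ᵁ ⊤)
      (by simp)).hom.toAlgebra
  letI : Algebra Γ(Spec (Y'.presheaf.stalk y'), ⊤)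
      Γ(pullback (pullback.snd f g) j, (pf ≫ pullback.fst f g) ⁻¹ᵁ U ⊓ ps ⁻¹ᵁ ⊤) :=
    (ps.appLE ⊤ ((pf ≫ pullback.fst f g) ⁻¹ᵁ U ⊓ ps ⁻¹ᵁ ⊤) (by simp)).hom.toAlgebra
  letI : Algebra Γ(Y, V)
      Γ(pullback (pullback.snd f g) j, (pf ≫ pullback.fst f g) ⁻¹ᵁ U ⊓ ps ⁻¹ᵁ ⊤) :=
    ((algebraMap Γ(X, U) _).comp (algebraMap Γ(Y, V) Γ(X, U))).toAlgebra
  haveI : IsScalarTower Γ(Y, V) Γ(X, U)
      Γ(pullback (pullback.snd f g) j, (pf ≫ pullback.fst f g) ⁻¹ᵁ U ⊓ ps ⁻¹ᵁ ⊤) :=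
    .of_algebraMap_eq' rfl
  haveI : IsScalarTower Γ(Y, V) Γ(Spec (Y'.presheaf.stalk y'), ⊤)
      Γ(pullback (pullback.snd f g) j, (pf ≫ pullback.fst f g) ⁻¹ᵁ U ⊓ ps ⁻¹ᵁ ⊤) :=
    .of_algebraMap_eq' (congr($(hpush.w).hom))
  haveI hPO : Algebra.IsPushout Γ(Y, V) Γ(X, U) Γ(Spec (Y'.presheaf.stalk y'), ⊤)
      Γ(pullback (pullback.snd f g) j, (pf ≫ pullback.fst f g) ⁻¹ᵁ U ⊓ ps ⁻¹ᵁ ⊤) :=
    CommRingCat.isPushout_iff_isPushout.mp hpush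
  haveI : Algebra.IsPushout Γ(Y, V) Γ(Spec (Y'.presheaf.stalk y'), ⊤) Γ(X, U)
      Γ(pullback (pullback.snd f g) j, (pf ≫ pullback.fst f g) ⁻¹ᵁ U ⊓ ps ⁻¹ᵁ ⊤) := hPO.symm
  haveI : Algebra.FinitePresentation Γ(Y, V) Γ(X, U) := f.finitePresentation_appLE hV hU hUV
  haveI : Module.Flat Γ(Y, V) Γ(Spec (Y'.presheaf.stalk y'), ⊤) := hflat
  have hcomap := IsAffineOpen.comap_primeIdealOf_appLE (f := pf ≫ pullback.fst f g) U hU
    ((pf ≫ pullback.fst f g) ⁻¹ᵁ U ⊓ ps ⁻¹ᵁ ⊤) hUY' (by simp) hx''UY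
  constructor
  · rintro ⟨U', hxU', hsm⟩
    have hsm'' : Smooth ((pf ⁻¹ᵁ U').ι ≫ ps) := nhd_baseChange @Smooth H₁ U' hsm
    have hfs'' : (ps.stalkMap x'').hom.FormallySmooth :=
      (H5.DS.exists_smooth_nhd_iff_lfp ps x'').1 ⟨pf ⁻¹ᵁ U', by
        show pf x'' ∈ U'
        rw [hx''₁]; exact hxU', hsm''⟩
    have h1 := (formallySmooth_stalkMap_iff (f := ps) ⊤ htop
      ((pf ≫ pullback.fst f g) ⁻¹ᵁ U ⊓ ps ⁻¹ᵁ ⊤) hUY' (by simp) hx''UY).mp hfs''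
    have h2 := mem_smoothLocus_of_isPushout_flat Γ(Y, V) Γ(X, U)
      Γ(Spec (Y'.presheaf.stalk y'), ⊤) _ _ h1
    rw [← hxx]
    refine (formallySmooth_stalkMap_iff V hV U hU hUV hx''UY.1).mpr ?_
    rw [← hcomap]
    exact h2
  · rintro ⟨U', hxU', hsm⟩
    have hsm'' : FormallyUnramified ((pf ⁻¹ᵁ U').ι ≫ ps) :=
      nhd_baseChange @FormallyUnramified H₁ U' hsm
    have hx''U' : x'' ∈ pf ⁻¹ᵁ U' := by
      show pf x'' ∈ U'
      rw [hx''₁]; exact hxU'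
    have hfs'' : (ps.stalkMap x'').hom.FormallyUnramified := by
      have h1 := FormallyUnramified.stalkMap ((pf ⁻¹ᵁ U').ι ≫ ps) ⟨x'', hx''U'⟩
      exact (H5.AL.formallyUnramified_stalkMap_comp (pf ⁻¹ᵁ U').ι ps ⟨x'', hx''U'⟩).2 h1
    have h1 := (H5.AL.formallyUnramified_stalkMap_iff (f := ps) ⊤ htop
      ((pf ≫ pullback.fst f g) ⁻¹ᵁ U ⊓ ps ⁻¹ᵁ ⊤) hUY' (by simp) hx''UY).mp hfs''
    have h2 := mem_unramifiedLocus_of_isPushout_flat Γ(Y, V) Γ(X, U)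
      Γ(Spec (Y'.presheaf.stalk y'), ⊤) _ _ h1
    rw [← hxx]
    refine (H5.AL.formallyUnramified_stalkMap_iff V hV U hU hUV hx''UY.1).mpr ?_
    rw [← hcomap]
    exact h2

end H5.DF
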