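import Groth.Agent.Lib.Helper5.DF.DF6

set_option autoImplicit false

universe u

namespace H5.DF

open AlgebraicGeometry CategoryTheory CategoryTheory.Limits

theorem main2757 {X Y Y' : Scheme.{u}} (f : X ⟶ Y) [LocallyOfFinitePresentation f]
    (g : Y' ⟶ Y) (x' : ↑(pullback f g))
    (hg : (g.stalkMap ((pullback.snd f g).base x')).hom.Flat)
    (h : ∃ U' : (pullback f g).Opens, x' ∈ U' ∧ Smooth (U'.ι ≫ pullback.snd f g)) :
    ∃ U : X.Opens, (pullback.fst f g).base x' ∈ U ∧ Smooth (U.ι ≫ f) :=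
  (H5.DS.exists_smooth_nhd_iff_lfp f _).2 ((key f g x' hg).1 h)

theorem main2758 {X Y Y' : Scheme.{u}} (f : X ⟶ Y) [LocallyOfFinitePresentation f]
    (g : Y' ⟶ Y) (x' : ↑(pullback f g))
    (hg : (g.stalkMap ((pullback.snd f g).base x')).hom.Flat)
    (h : ∃ U' : (pullback f g).Opens, x' ∈ U' ∧ Etale (U'.ι ≫ pullback.snd f g)) :
    ∃ U : X.Opens, (pullback.fst f g).base x' ∈ U ∧ Etale (U.ι ≫ f) := by
  obtain ⟨U', hxU', het⟩ := h
  have h1 := (key f g x' hg).1 ⟨U', hxU', inferInstance⟩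
  have h2 := (key f g x' hg).2 ⟨U', hxU', inferInstance⟩
  exact H5.AL.exists_etale_nhd f _ h1 h2

end H5.DF
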