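import Mathlib

set_option autoImplicit false
open TensorProduct PrimeSpectrum

namespace H5.DF

/-- For a finite module `M` and a field `K` over `A`, `K ⊗ M ≠ 0` iff the kernel of `A → K` is in
the support of `M`. -/
theorem nontrivial_field_tensor_iff {A K M : Type*} [CommRing A] [Field K] [Algebra A K]
    [AddCommGroup M] [Module A M] [Module.Finite A M] (q : PrimeSpectrum A)
    (hq : q.asIdeal = RingHom.ker (algebraMap A K)) :
    Nontrivial (K ⊗[A] M) ↔ q ∈ Module.support A M := by
  rw [Module.mem_support_iff_nontrivial_residueField_tensorProduct]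
  have hf₁ : q.asIdeal ≤ RingHom.ker (algebraMap A K) := hq.le
  have hf₂ : q.asIdeal.primeCompl ≤ (IsUnit.submonoid K).comap (algebraMap A K) := by
    intro a ha
    show IsUnit (algebraMap A K a)
    rw [isUnit_iff_ne_zero]
    intro h0
    exact ha (hq ▸ (RingHom.mem_ker.mpr h0))
  letI : Algebra q.asIdeal.ResidueField K :=
    (Ideal.ResidueField.lift q.asIdeal (algebraMap A K) hf₁ hf₂).toAlgebra
  haveI : IsScalarTower A q.asIdeal.ResidueField K := .of_algebraMap_eq fun a => by
    rw [RingHom.algebraMap_toAlgebra, Ideal.ResidueField.lift_algebraMap]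
  let e := AlgebraTensorModule.cancelBaseChange A q.asIdeal.ResidueField K K M
  rw [← e.nontrivial_congr]
  exact Module.FaithfullyFlat.nontrivial_tensorProduct_iff_right _ _

/-- The support of a finite module commutes with base change. -/
theorem mem_support_baseChange_iff {A A' M : Type*} [CommRing A] [CommRing A'] [Algebra A A']
    [AddCommGroup M] [Module A M] [Module.Finite A M] (q' : PrimeSpectrum A') :
    q' ∈ Module.support A' (A' ⊗[A] M) ↔ comap (algebraMap A A') q' ∈ Module.support A M := by
  rw [Module.mem_support_iff_nontrivial_residueField_tensorProduct]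
  let e := AlgebraTensorModule.cancelBaseChange A A' q'.asIdeal.ResidueField
    q'.asIdeal.ResidueField M
  rw [e.nontrivial_congr]
  refine nontrivial_field_tensor_iff _ ?_
  ext a
  rw [RingHom.mem_ker, IsScalarTower.algebraMap_apply A A' q'.asIdeal.ResidueField,
    Ideal.algebraMap_residueField_eq_zero]
  rfl

end H5.DF
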